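import Groth.Agent.CAlg4.ArtinRees
import Groth.Agent.QC70.Deligne
import Mathlib.RingTheory.TensorProduct.Basic
import Mathlib.RingTheory.Filtration
import Mathlib.RingTheory.Nakayama
import Mathlib.LinearAlgebra.TensorProduct.Tower

/-! Approximating maps of finite modules along a map of Zariski pairs. -/

set_option autoImplicit false
set_option linter.style.haveILetI false
set_option linter.unusedSectionVars false

universe u

noncomputable section

open TensorProduct

namespace Groth.Agent.ZPair71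

variable {A B : Type u} [CommRing A] [CommRing B] [Algebra A B] {J : Ideal A}
  (hq : ∀ n : ℕ, Function.Bijective
    (Ideal.quotientMap (Ideal.map (algebraMap A B) (J ^ n)) (algebraMap A B) Ideal.le_comap_map))

/-- Reduction of `B` to the quotients of `A`. -/
def red (n : ℕ) : B →ₐ[A] A ⧸ J ^ n where
  toRingHom := (RingEquiv.ofBijective _ (hq n)).symm.toRingHom.comp
    (Ideal.Quotient.mk (Ideal.map (algebraMap A B) (J ^ n)))
  commutes' a := by
    show (RingEquiv.ofBijective _ (hq n)).symm (Ideal.Quotient.mk _ (algebraMap A B a)) = _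
    rw [RingEquiv.symm_apply_eq]
    show _ = Ideal.quotientMap (Ideal.map (algebraMap A B) (J ^ n)) (algebraMap A B) Ideal.le_comap_map (Ideal.Quotient.mk _ a)
    rw [Ideal.quotientMap_mk]

lemma sub_mem_of_red (n : ℕ) (b : B) (a : A) (h : red hq n b = Ideal.Quotient.mk _ a) :
    b - algebraMap A B a ∈ Ideal.map (algebraMap A B) (J ^ n) := by
  rw [← Ideal.Quotient.eq]
  have h' := congrArg (RingEquiv.ofBijective _ (hq n)) h
  rw [RingEquiv.ofBijective_apply, RingEquiv.ofBijective_apply, Ideal.quotientMap_mk] at h'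
  rw [← h']
  exact ((RingEquiv.ofBijective _ (hq n)).apply_symm_apply _).symm

variable (C : Type u) [AddCommGroup C] [Module A C]

/-- Reduction of a base change to the quotients of the module. -/
def redMod (n : ℕ) : B ⊗[A] C →ₗ[A] C ⧸ (J ^ n • ⊤ : Submodule A C) :=
  (TensorProduct.quotTensorEquivQuotSMul C (J ^ n)).toLinearMap ∘ₗ
    LinearMap.rTensor C (red hq n).toLinearMap

lemma redMod_tmul (n : ℕ) (b : B) (a : A) (h : red hq n b = Ideal.Quotient.mk _ a) (c : C) :
    redMod hq C n (b ⊗ₜ c) = Submodule.Quotient.mk (a • c) := by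
  show TensorProduct.quotTensorEquivQuotSMul C (J ^ n) ((red hq n b) ⊗ₜ c) = _
  rw [h, TensorProduct.quotTensorEquivQuotSMul_mk_tmul]

lemma redMod_one (n : ℕ) (c : C) : redMod hq C n (1 ⊗ₜ c) = Submodule.Quotient.mk c := by
  rw [redMod_tmul hq C n 1 1 (by rw [map_one, map_one]), one_smul]

lemma one_tmul_mem {n : ℕ} {c : C} (h : c ∈ (J ^ n • ⊤ : Submodule A C)) :
    (1 : B) ⊗ₜ[A] c ∈ (Ideal.map (algebraMap A B) (J ^ n) • ⊤ : Submodule B (B ⊗[A] C)) := by
  refine Submodule.smul_induction_on h (fun a ha c _ => ?_) fun x y hx hy => ?_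
  · rw [TensorProduct.tmul_smul, ← algebraMap_smul B a ((1 : B) ⊗ₜ[A] c)]
    exact Submodule.smul_mem_smul (Ideal.mem_map_of_mem _ ha) trivial
  · rw [TensorProduct.tmul_add]; exact add_mem hx hy

lemma sub_one_tmul_mem (n : ℕ) (z : B ⊗[A] C) :
    ∀ y : C, redMod hq C n z = Submodule.Quotient.mk y →
      z - 1 ⊗ₜ y ∈ (Ideal.map (algebraMap A B) (J ^ n) • ⊤ : Submodule B (B ⊗[A] C)) := by
  suffices h : ∃ y, redMod hq C n z = Submodule.Quotient.mk y ∧
      z - 1 ⊗ₜ y ∈ (Ideal.map (algebraMap A B) (J ^ n) • ⊤ : Submodule B (B ⊗[A] C)) by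
    obtain ⟨y, hy, hz⟩ := h
    intro y' hy'
    have := one_tmul_mem (B := B) C ((Submodule.Quotient.eq _).1 (hy.symm.trans hy'))
    rw [TensorProduct.tmul_sub] at this
    have h2 := add_mem hz this
    rwa [sub_add_sub_cancel] at h2
  induction z using TensorProduct.induction_on with
  | zero => exact ⟨0, by simp, by simp⟩
  | tmul b c =>
    obtain ⟨a, ha⟩ := Ideal.Quotient.mk_surjective (red hq n b)
    refine ⟨a • c, redMod_tmul hq C n b a ha.symm c, ?_⟩
    have : b ⊗ₜ[A] c - 1 ⊗ₜ (a • c) = (b - algebraMap A B a) • ((1 : B) ⊗ₜ[A] c) := by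
      rw [TensorProduct.smul_tmul', smul_eq_mul, mul_one, TensorProduct.sub_tmul, TensorProduct.tmul_smul,
        TensorProduct.smul_tmul', Algebra.smul_def, mul_one]
    rw [this]
    exact Submodule.smul_mem_smul (sub_mem_of_red hq n b a ha.symm) trivial
  | add x y hx hy =>
    obtain ⟨a, ha, ha'⟩ := hx
    obtain ⟨b, hb, hb'⟩ := hy
    refine ⟨a + b, by rw [map_add, ha, hb, Submodule.Quotient.mk_add], ?_⟩
    rw [TensorProduct.tmul_add, add_sub_add_comm]
    exact add_mem ha' hb'

variable [IsNoetherianRing A]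

include hq in
lemma eq_zero_of_one_tmul [Module.Finite A C] (hJ : J ≤ (⊥ : Ideal A).jacobson) {c : C}
    (h : (1 : B) ⊗ₜ[A] c = 0) : c = 0 := by
  have hmem : c ∈ (⨅ n : ℕ, J ^ n • ⊤ : Submodule A C) := by
    rw [Submodule.mem_iInf]
    intro n
    rw [← Submodule.Quotient.mk_eq_zero, ← redMod_one hq C n c, h, map_zero]
  rw [Ideal.iInf_pow_smul_eq_bot_of_le_jacobson J hJ] at hmem
  exact hmem

variable {P Q : Type u} [AddCommGroup P] [Module A P] [Module.Finite A P] [AddCommGroup Q] [Module A Q]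
  [Module.Finite A Q] [IsNoetherianRing B]

include hq in
/-- A map after base change with cokernel killed by a power of `I` is approximated by one over `A`. -/
theorem exists_descent (hJ : J ≤ (⊥ : Ideal A).jacobson)
    (hJB : J.map (algebraMap A B) ≤ (⊥ : Ideal B).jacobson) (I : Ideal A) {c₀ : ℕ} (hc₀ : J ^ c₀ ≤ I)
    (β : B ⊗[A] P →ₗ[B] B ⊗[A] Q) (e : ℕ)
    (hβ : ∀ b ∈ (I.map (algebraMap A B)) ^ e, ∀ z, b • z ∈ LinearMap.range β) :
    ∃ α : P →ₗ[A] Q, ∀ b ∈ I ^ e, ∀ y : Q, b • y ∈ LinearMap.range α := by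
  obtain ⟨c, hc⟩ := CAlg4.AR.exists_lift_hom J P Q
  let k := c₀ * e + 1
  obtain ⟨α, hα⟩ := hc k ((redMod hq Q (k + c)).comp ((β.restrictScalars A).comp
    ((TensorProduct.mk A B P) 1)))
  refine ⟨α, ?_⟩
  let J' := J.map (algebraMap A B)
  have hk : (Ideal.map (algebraMap A B) (J ^ k) • ⊤ : Submodule B (B ⊗[A] Q)) ≤ J' • LinearMap.range β := by
    rw [Ideal.map_pow, pow_succ', Submodule.mul_smul]
    refine Submodule.smul_mono le_rfl (Submodule.smul_le.2 fun b hb z _ => hβ b ?_ z)
    rw [← Ideal.map_pow] at hb ⊢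
    refine Ideal.map_mono ?_ hb
    rw [pow_mul]
    exact Ideal.pow_right_mono hc₀ e
  have hgen : LinearMap.range β ≤ LinearMap.range (α.baseChange B) ⊔ J' • LinearMap.range β := by
    have h1 : ∀ x : P, β (1 ⊗ₜ x) ∈ LinearMap.range (α.baseChange B) ⊔ J' • LinearMap.range β := by
      intro x
      obtain ⟨y, hy⟩ := Submodule.Quotient.mk_surjective _ (redMod hq Q (k + c) (β (1 ⊗ₜ x)))
      have e1 := sub_one_tmul_mem hq Q (k + c) (β (1 ⊗ₜ x)) y hy.symm
      have e2 := one_tmul_mem (B := B) Q (hα x y hy)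
      have e3 : (Ideal.map (algebraMap A B) (J ^ (k + c)) • ⊤ : Submodule B (B ⊗[A] Q)) ≤
          Ideal.map (algebraMap A B) (J ^ k) • ⊤ :=
        Submodule.smul_mono_left (Ideal.map_mono (Ideal.pow_le_pow_right (Nat.le_add_right k c)))
      have e4 := hk (sub_mem (e3 e1) e2)
      have e5 : β (1 ⊗ₜ x) = (α.baseChange B) (1 ⊗ₜ x) + (β (1 ⊗ₜ x) - 1 ⊗ₜ y - 1 ⊗ₜ (α x - y)) := by
        rw [LinearMap.baseChange_tmul, TensorProduct.tmul_sub]; abel
      rw [e5]
      exact Submodule.add_mem_sup ⟨_, rfl⟩ e4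
    rintro _ ⟨z, rfl⟩
    induction z using TensorProduct.induction_on with
    | zero => rw [map_zero]; exact zero_mem _
    | tmul b x =>
      rw [show b ⊗ₜ[A] x = b • ((1 : B) ⊗ₜ[A] x) by rw [TensorProduct.smul_tmul', smul_eq_mul, mul_one],
        map_smul]
      exact Submodule.smul_mem _ _ (h1 x)
    | add x y hx hy => rw [map_add]; exact add_mem hx hy
  have hle := Submodule.le_of_le_smul_of_le_jacobson_bot (IsNoetherian.noetherian _) hJB hgen
  intro b hb y
  let π := (LinearMap.range α).mkQ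
  rw [← Submodule.Quotient.mk_eq_zero]
  refine eq_zero_of_one_tmul hq (Q ⧸ LinearMap.range α) hJ ?_
  have hb' : algebraMap A B b ∈ (I.map (algebraMap A B)) ^ e := by
    rw [← Ideal.map_pow]; exact Ideal.mem_map_of_mem _ hb
  obtain ⟨w, hw⟩ := hle (hβ _ hb' (1 ⊗ₜ y))
  have h0 : (π.baseChange B).comp (α.baseChange B) = 0 := by
    rw [← LinearMap.baseChange_comp, show π.comp α = 0 from LinearMap.range_mkQ_comp _,
      LinearMap.baseChange_zero]
  have := congrArg (π.baseChange B) hw
  rw [← LinearMap.comp_apply, h0, LinearMap.zero_apply, algebraMap_smul, ← TensorProduct.tmul_smul,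
    LinearMap.baseChange_tmul] at this
  exact this.symm

/-- An ideal kills a cokernel up to a power if it does so near every point off its zero locus. -/
theorem exists_pow_smul_mem_range (I : Ideal A) (β : P →ₗ[A] Q)
    (h : ∀ p : PrimeSpectrum A, ¬ I ≤ p.asIdeal → ∀ y : Q, ∃ s ∉ p.asIdeal, s • y ∈ LinearMap.range β) :
    ∃ e : ℕ, ∀ b ∈ I ^ e, ∀ y : Q, b • y ∈ LinearMap.range β := by
  obtain ⟨e, he⟩ := QC70.exists_pow_smul_mem_of_fg I (Module.Finite.fg_top (R := A) (M := Q))
    (LinearMap.range β) fun y _ => by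
      have key : I ≤ (Submodule.colon (LinearMap.range β) {y}).radical := by
        intro b hb
        rw [Ideal.radical_eq_sInf, Submodule.mem_sInf]
        rintro p ⟨hp, hpp⟩
        by_contra hbp
        obtain ⟨s, hs, hsy⟩ := h ⟨p, hpp⟩ (fun hle => hbp (hle hb)) y
        exact hs (hp (Submodule.mem_colon_singleton.2 hsy))
      obtain ⟨m, hm⟩ := Ideal.exists_pow_le_of_le_radical_of_fg key (IsNoetherian.noetherian _)
      exact ⟨m, fun b hb => Submodule.mem_colon_singleton.1 (hm hb)⟩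
  exact ⟨e, fun b hb y => he b hb y trivial⟩

end Groth.Agent.ZPair71
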