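import Groth.Agent.ZPair71.TildeOpen
import Groth.Agent.ZPair71.Algebra
import Groth.Agent.TildePull72.Basic
import Groth.Agent.Props58.Ext.FPExt
import Groth.Agent.Props58.LocFree.Criteria
import Groth.Agent.CAlg8.Canon.BaseChange

/-! Isomorphism classes of vector bundles on opens of Zariski pairs. -/

set_option autoImplicit false
set_option maxSynthPendingDepth 6
set_option linter.style.haveILetI false
set_option linter.unusedSectionVars false
set_option backward.isDefEq.respectTransparency.types false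

universe u

noncomputable section

open CategoryTheory Limits AlgebraicGeometry TopologicalSpace Opposite TensorProduct

namespace Groth.Agent.ZPair71

variable {R : CommRingCat.{u}}

/-- A finite type quasi-coherent module on a quasi-compact open extends to a finite module. -/
theorem exists_finite_extension {U : (Spec R).Opens} (hUc : IsCompact (U : Set (Spec R)))
    (E : (U : Scheme.{u}).Modules) [E.IsQuasicoherent] [E.IsFiniteType] :
    ∃ M : ModuleCat.{u} R, Module.Finite R M ∧ Nonempty ((tilde M).restrict U.ι ≅ E) := by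
  obtain ⟨T, ⟨eT⟩⟩ := QCRes72.exists_iso_restrict_tilde hUc E
  haveI : ((tilde T).restrict U.ι).IsFiniteType := QC70.isFiniteType_of_iso eT
  haveI : ((tilde T).restrict U.ι).IsQuasicoherent := QC70.isQuasicoherent_of_iso eT ‹_›
  obtain ⟨H, j, hj, hH, hHft, hjU⟩ := Props58.Ext.exists_fg_sub (tilde T) hUc fun D hD hDU => by
    obtain ⟨D', rfl⟩ : ∃ D' : U.toScheme.Opens, U.ι ''ᵁ D' = D :=
      ⟨U.ι ⁻¹ᵁ D, le_antisymm (U.ι.image_preimage_le D) fun x hx => ⟨⟨x, hDU hx⟩, hx, rfl⟩⟩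
    have hD' : IsAffineOpen D' := by
      rw [← U.ι.preimage_image_eq D']
      exact hD.preimage_of_isOpenImmersion _ (by rw [Scheme.Opens.opensRange_ι]; exact hDU)
    haveI := QC70.finite_sections_of_isFiniteType ((tilde T).restrict U.ι) hD'
    haveI : RingHomSurjective (U.ι.appIso D').inv.hom :=
      ⟨(ConcreteCategory.bijective_of_isIso (U.ι.appIso D').inv).2⟩
    let f : Γ((tilde T).restrict U.ι, D') →ₛₗ[(U.ι.appIso D').inv.hom] Γ(tilde T, U.ι ''ᵁ D') :=
      { toFun := fun x => ((tilde T).restrictAppIso U.ι D').hom x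
        map_add' := fun _ _ => map_add _ _ _
        map_smul' := fun r x => (tilde T).smul_restrictAppIso_hom_apply _ _ _ x }
    exact Module.Finite.of_surjective f
      (ConcreteCategory.bijective_of_isIso ((tilde T).restrictAppIso U.ι D').hom).2
  obtain ⟨M, ⟨eM⟩⟩ := QCRes72.exists_iso_tilde H
  haveI : (tilde M).IsFiniteType := QC70.isFiniteType_of_iso eM.symm
  haveI : IsIso ((Scheme.Modules.restrictFunctor U.ι).map j) :=
    Scheme.Modules.Hom.isIso_iff_isIso_app.2 fun W => (ConcreteCategory.isIso_iff_bijective _).2 (hjU (U.ι ''ᵁ W) (U.ι_image_le W))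
  exact ⟨M, (QCRes72.isFiniteType_tilde_iff M).1 inferInstance,
    ⟨(Scheme.Modules.restrictFunctor U.ι).mapIso eM ≪≫
      asIso ((Scheme.Modules.restrictFunctor U.ι).map j) ≪≫ eT.symm⟩⟩

variable {A B : Type u} [CommRing A] [CommRing B]

/-- Inverse image along a restriction commutes with restriction. -/
def pullRestrictIso {X Y : Scheme.{u}} (g : X ⟶ Y) (U : Y.Opens) (F : Y.Modules) :
    (Scheme.Modules.pullback (g ∣_ U)).obj (F.restrict U.ι) ≅
      ((Scheme.Modules.pullback g).obj F).restrict (g ⁻¹ᵁ U).ι :=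
  (Scheme.Modules.pullback (g ∣_ U)).mapIso ((Scheme.Modules.restrictFunctorIsoPullback U.ι).app F) ≪≫
    (Scheme.Modules.pullbackComp (g ∣_ U) U.ι).app F ≪≫
    (Scheme.Modules.pullbackCongr (morphismRestrict_ι g U)).app F ≪≫
    ((Scheme.Modules.pullbackComp (g ⁻¹ᵁ U).ι g).app F).symm ≪≫
    ((Scheme.Modules.restrictFunctorIsoPullback (g ⁻¹ᵁ U).ι).app ((Scheme.Modules.pullback g).obj F)).symm

/-- Bundles of the same rank isomorphic after pullback to the Zariski pair are isomorphic. -/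
theorem nonempty_iso [IsNoetherianRing A] [IsNoetherianRing B] [Algebra A B] (J : Ideal A)
    (hJ : J ≤ (⊥ : Ideal A).jacobson) (hJB : J.map (algebraMap A B) ≤ (⊥ : Ideal B).jacobson)
    (hq : ∀ n : ℕ, Function.Bijective
      (Ideal.quotientMap (Ideal.map (algebraMap A B) (J ^ n)) (algebraMap A B) Ideal.le_comap_map))
    (U : (Spec (CommRingCat.of A)).Opens)
    (hU : ∀ p : PrimeSpectrum A, ¬ J ≤ p.asIdeal → p ∈ U)
    {n : ℕ} {E₁ E₂ : (U : Scheme.{u}).Modules}
    (h₁ : FlatMod.IsFinLocFreeOfRank n E₁) (h₂ : FlatMod.IsFinLocFreeOfRank n E₂)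
    (hiso : Nonempty ((Scheme.Modules.pullback ((Spec.map (CommRingCat.ofHom (algebraMap A B))) ∣_ U)).obj E₁ ≅
      (Scheme.Modules.pullback ((Spec.map (CommRingCat.ofHom (algebraMap A B))) ∣_ U)).obj E₂)) :
    Nonempty (E₁ ≅ E₂) := by
  let g := Spec.map (CommRingCat.ofHom (algebraMap A B))
  have hlf : ∀ {E : (U : Scheme.{u}).Modules}, FlatMod.IsFinLocFreeOfRank n E → FlatMod.IsFinLocFree E :=
    fun h x => by
      obtain ⟨V, hx, he⟩ := h x
      exact ⟨V, n, hx, he⟩
  haveI := Props58.LocFree.isFiniteType_of_isFinLocFree (hlf h₁)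
  haveI := Props58.LocFree.isFiniteType_of_isFinLocFree (hlf h₂)
  haveI := Props58.LocFree.isQuasicoherent_of_isFinLocFree (hlf h₁)
  haveI := Props58.LocFree.isQuasicoherent_of_isFinLocFree (hlf h₂)
  haveI : IsNoetherianRing (CommRingCat.of A) := ‹IsNoetherianRing A›
  have hUc : IsCompact (U : Set (Spec (CommRingCat.of A))) := NoetherianSpace.isCompact _
  obtain ⟨M₁, hM₁, ⟨e₁⟩⟩ := exists_finite_extension hUc E₁
  obtain ⟨M₂, hM₂, ⟨e₂⟩⟩ := exists_finite_extension hUc E₂
  haveI : Module.Finite A M₁ := hM₁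
  haveI : Module.Finite A M₂ := hM₂
  let a : Ideal A := PrimeSpectrum.vanishingIdeal ((U.1 : Set (PrimeSpectrum A))ᶜ)
  have haU : ∀ p : PrimeSpectrum A, p ∈ U ↔ ¬ a ≤ p.asIdeal := fun p => by
    have h : PrimeSpectrum.zeroLocus (a : Set A) = ((U.1 : Set (PrimeSpectrum A))ᶜ) :=
      (PrimeSpectrum.zeroLocus_vanishingIdeal_eq_closure _).trans U.2.isClosed_compl.closure_eq
    have := Set.ext_iff.1 h p
    rw [PrimeSpectrum.mem_zeroLocus] at this
    exact ⟨fun hp hle => this.1 hle hp, fun hle => not_not.1 fun hp => hle (this.2 hp)⟩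
  obtain ⟨c₀, hc₀⟩ : ∃ c₀ : ℕ, J ^ c₀ ≤ a := by
    refine Ideal.exists_pow_le_of_le_radical_of_fg ?_ (IsNoetherian.noetherian _)
    rw [Ideal.radical_eq_sInf]
    refine le_sInf fun p hp => ?_
    by_contra hJp
    exact (haU ⟨p, hp.2⟩).1 (hU ⟨p, hp.2⟩ hJp) hp.1
  let aB : Ideal B := a.map (algebraMap A B)
  have haU' : ∀ q : PrimeSpectrum B, q ∈ g ⁻¹ᵁ U ↔ ¬ aB ≤ q.asIdeal := fun q =>
    (haU (PrimeSpectrum.comap (algebraMap A B) q)).trans (not_congr Ideal.map_le_iff_le_comap.symm)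
  obtain ⟨Φ⟩ := hiso
  obtain ⟨t₁⟩ := TildePull72.nonempty_pullback_tilde_iso A B M₁
  obtain ⟨t₂⟩ := TildePull72.nonempty_pullback_tilde_iso A B M₂
  let Ψ : (tilde (ModuleCat.of B (B ⊗[A] M₁))).restrict (g ⁻¹ᵁ U).ι ≅
      (tilde (ModuleCat.of B (B ⊗[A] M₂))).restrict (g ⁻¹ᵁ U).ι :=
    (Scheme.Modules.restrictFunctor (g ⁻¹ᵁ U).ι).mapIso t₁.symm ≪≫ (pullRestrictIso g U (tilde M₁)).symm ≪≫
      (Scheme.Modules.pullback (g ∣_ U)).mapIso e₁ ≪≫ Φ ≪≫ (Scheme.Modules.pullback (g ∣_ U)).mapIso e₂.symm ≪≫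
      pullRestrictIso g U (tilde M₂) ≪≫ (Scheme.Modules.restrictFunctor (g ⁻¹ᵁ U).ι).mapIso t₂
  haveI : IsNoetherianRing (CommRingCat.of B) := ‹IsNoetherianRing B›
  haveI : Module.Finite B (ModuleCat.of B (B ⊗[A] M₁)) := inferInstanceAs (Module.Finite B (B ⊗[A] M₁))
  obtain ⟨m, l, hl⟩ := exists_hom_of_iso (R := CommRingCat.of B) (ModuleCat.of B (B ⊗[A] M₁))
    (ModuleCat.of B (B ⊗[A] M₂)) aB haU' Ψ
  let P : Submodule A M₁ := a ^ m • ⊤
  have hrange : LinearMap.range (P.subtype.baseChange B) = (aB ^ m • ⊤ : Submodule B (B ⊗[A] M₁)) := by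
    apply le_antisymm
    · rintro _ ⟨z, rfl⟩
      induction z using TensorProduct.induction_on with
      | zero => rw [map_zero]; exact zero_mem _
      | tmul b x =>
        rw [LinearMap.baseChange_tmul]
        show b ⊗ₜ[A] (x : M₁) ∈ _
        refine Submodule.smul_induction_on (p := fun y => b ⊗ₜ[A] y ∈ (aB ^ m • ⊤ : Submodule B (B ⊗[A] M₁))) x.2
          (fun c hc y _ => ?_) (fun y z hy hz => ?_)
        · rw [show b ⊗ₜ[A] (c • y) = algebraMap A B c • (b ⊗ₜ[A] y) by
            rw [algebraMap_smul, TensorProduct.tmul_smul]]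
          refine Submodule.smul_mem_smul ?_ trivial
          rw [← Ideal.map_pow]; exact Ideal.mem_map_of_mem _ hc
        · rw [TensorProduct.tmul_add]; exact add_mem hy hz
      | add x y hx hy => rw [map_add]; exact add_mem hx hy
    · refine Submodule.smul_le.2 fun b hb z _ => ?_
      rw [← Ideal.map_pow] at hb
      refine Submodule.span_induction ?_ ?_ ?_ ?_ hb
      · rintro _ ⟨c, hc, rfl⟩
        induction z using TensorProduct.induction_on with
        | zero => rw [smul_zero]; exact zero_mem _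
        | tmul b x =>
          refine ⟨b ⊗ₜ ⟨c • x, Submodule.smul_mem_smul hc trivial⟩, ?_⟩
          rw [LinearMap.baseChange_tmul, algebraMap_smul, ← TensorProduct.tmul_smul]
          rfl
        | add x y hx hy => rw [smul_add]; exact add_mem (hx trivial) (hy trivial)
      · rw [zero_smul]; exact zero_mem _
      · intro x y _ _ hx hy; rw [add_smul]; exact add_mem hx hy
      · intro r x _ hx; rw [smul_eq_mul, mul_smul]; exact Submodule.smul_mem _ r hx
  haveI : Module.Finite A P := Module.Finite.iff_fg.2 (IsNoetherian.noetherian _)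
  let β : B ⊗[A] P →ₗ[B] B ⊗[A] M₂ := l.comp ((P.subtype.baseChange B).codRestrict _
    fun z => hrange.le ⟨z, rfl⟩)
  have hβ : ∀ q : PrimeSpectrum B, ¬ aB ≤ q.asIdeal → ∀ y : B ⊗[A] M₂,
      ∃ s ∉ q.asIdeal, s • y ∈ LinearMap.range β := fun q hq' y => by
    obtain ⟨s, hs, w, hw⟩ := hl q ((haU' q).2 hq') y
    obtain ⟨z, hz⟩ := hrange.ge w.2
    exact ⟨s, hs, z, (congrArg l (Subtype.ext hz : _ = w)).trans hw⟩
  obtain ⟨e, he⟩ := exists_pow_smul_mem_range aB β hβ
  obtain ⟨α, hα⟩ := exists_descent hq hJ hJB a hc₀ β e he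
  let Pm : ModuleCat.{u} (CommRingCat.of A) := ModuleCat.of A P
  let i : Pm ⟶ M₁ := ModuleCat.ofHom P.subtype
  haveI : Mono i := (ModuleCat.mono_iff_injective _).2 Subtype.val_injective
  let Res := Scheme.Modules.restrictFunctor U.ι
  haveI : Epi (Res.map (tilde.map i)) := epi_restrict_map i U fun p hp y => by
    obtain ⟨b, hb, hbp⟩ := SetLike.not_le_iff_exists.1 ((haU p).1 hp)
    exact ⟨b ^ m, fun h => hbp (p.isPrime.mem_of_pow_mem m h),
      ⟨⟨b ^ m • y, Submodule.smul_mem_smul (Ideal.pow_mem_pow hb m) trivial⟩, rfl⟩⟩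
  haveI : Mono (Res.map (tilde.map i)) := QC70.mono_of_app_injective _ fun W =>
    QC70.app_injective_of_mono (tilde.map i) (U.ι ''ᵁ W)
  haveI : IsIso (Res.map (tilde.map i)) := isIso_of_mono_of_epi _
  let α' : Pm ⟶ M₂ := ModuleCat.ofHom α
  haveI : Epi (Res.map (tilde.map α')) := epi_restrict_map α' U fun p hp y => by
    obtain ⟨b, hb, hbp⟩ := SetLike.not_le_iff_exists.1 ((haU p).1 hp)
    exact ⟨b ^ e, fun h => hbp (p.isPrime.mem_of_pow_mem e h), hα _ (Ideal.pow_mem_pow hb e) y⟩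
  let ψ : E₁ ⟶ E₂ := (e₁.inv ≫ inv (Res.map (tilde.map i))) ≫ Res.map (tilde.map α') ≫ e₂.hom
  haveI : Epi ψ := inferInstance
  haveI := CAlg8.Canon.isIso_of_epi_of_rank h₁ h₂ ψ
  exact ⟨asIso ψ⟩

end Groth.Agent.ZPair71
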