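import Groth.Agent.QC70.Deligne
import Groth.Agent.QCqs72.Basic
import Groth.Agent.QCRes72.Basic
import Mathlib.AlgebraicGeometry.Modules.Tilde

/-! Morphisms between tilde modules over an open of a Noetherian affine scheme. -/

set_option autoImplicit false
set_option maxSynthPendingDepth 6
set_option linter.style.haveILetI false
set_option linter.unusedSectionVars false
set_option backward.isDefEq.respectTransparency.types false

universe u

noncomputable section

open CategoryTheory Limits AlgebraicGeometry TopologicalSpace Opposite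

namespace Groth.Agent.ZPair71

open QC70 (res)

variable {R : CommRingCat.{u}} (M N : ModuleCat.{u} R)

/-- A module as sections of its tilde over an open. -/
def secL (U : (Spec R).Opens) : M →ₗ[R] Γ(tilde M, U) := (tilde.toOpen M U).hom

lemma res_secL {U V : (Spec R).Opens} (h : V ≤ U) (x : M) :
    res (tilde M) h (secL M U x) = secL M V x :=
  congr(($(tilde.toOpen_res M U V (homOfLE h))).hom x)

lemma res_smulR {U V : (Spec R).Opens} (F : (Spec R).Modules) (h : V ≤ U) (r : R) (x : Γ(F, U)) :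
    res F h (r • x) = r • res F h x :=
  Scheme.Modules.map_smul_Spec _ r x

lemma app_smulR {F G : (Spec R).Modules} (φ : F ⟶ G) {U : (Spec R).Opens} (r : R) (x : Γ(F, U)) :
    φ.app U (r • x) = r • φ.app U x := by
  rw [Scheme.Modules.smul_Spec_def, Scheme.Modules.smul_Spec_def]
  exact Scheme.Modules.Hom.app_smul _ _ _

lemma map_secL {M N : ModuleCat.{u} R} (f : M ⟶ N) (U : (Spec R).Opens) (x : M) :
    (tilde.map f).app U (secL M U x) = secL N U (f x) :=
  congr(($(tilde.toOpen_map_app f U)).hom x)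

/-- Sections over a basic open are fractions. -/
lemma exists_frac (b : R) (z : Γ(tilde M, PrimeSpectrum.basicOpen b)) :
    ∃ (m : M) (k : ℕ), b ^ k • z = secL M (PrimeSpectrum.basicOpen b) m := by
  obtain ⟨⟨m, ⟨_, k, rfl⟩⟩, h⟩ :=
    IsLocalizedModule.surj (Submonoid.powers b) (tilde.toOpen M (PrimeSpectrum.basicOpen b)).hom z
  exact ⟨m, k, h⟩

/-- Elements vanishing on a basic open are killed by a power. -/
lemma exists_kill (b : R) {x : M} (h : secL M (PrimeSpectrum.basicOpen b) x = 0) :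
    ∃ k : ℕ, b ^ k • x = 0 := by
  obtain ⟨⟨_, k, rfl⟩, hk⟩ := (IsLocalizedModule.eq_iff_exists (Submonoid.powers b)
    (tilde.toOpen M (PrimeSpectrum.basicOpen b)).hom (x₁ := x) (x₂ := 0)).1 (h.trans (map_zero _).symm)
  exact ⟨k, hk.trans (smul_zero _)⟩

instance mono_map {M N : ModuleCat.{u} R} (f : M ⟶ N) [Mono f] : Mono (tilde.map f) := by
  refine QC70.mono_of_app_injective _ fun W s t hst => QC70.section_ext _ s t fun p hp => ?_
  obtain ⟨_, ⟨_, ⟨b, rfl⟩, rfl⟩, hpb, hbW⟩ :=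
    PrimeSpectrum.isBasis_basic_opens.exists_subset_of_mem_open (show p ∈ (W : Set _) from hp) W.2
  refine ⟨PrimeSpectrum.basicOpen b, hbW, hpb, sub_eq_zero.1 ?_⟩
  rw [← QC70.res_sub]
  obtain ⟨m, k, hm⟩ := exists_frac M b (res (tilde M) hbW (s - t))
  have h0 : secL N (PrimeSpectrum.basicOpen b) (f m) = 0 := by
    rw [← map_secL, ← hm, app_smulR, QC70.app_res, map_sub, hst, sub_self, QC70.res_zero, smul_zero]
  obtain ⟨j, hj⟩ := exists_kill N b h0
  have hj' : b ^ j • m = 0 := by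
    refine (ModuleCat.mono_iff_injective f).1 ‹Mono f› ?_
    rw [map_zero]
    exact (map_smul f.hom _ _).trans hj
  refine (Scheme.Modules.isSMulRegular_of_le_basicOpen (M := tilde M) le_rfl).pow (j + k) ?_
  show b ^ (j + k) • _ = b ^ (j + k) • (0 : Γ(tilde M, PrimeSpectrum.basicOpen b))
  rw [smul_zero, pow_add, mul_smul, hm, ← LinearMap.map_smul, hj', map_zero]

/-- A morphism which is surjective near every point of `U` gives an epimorphism over `U`. -/
theorem epi_restrict_map {M N : ModuleCat.{u} R} (f : M ⟶ N) (U : (Spec R).Opens)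
    (h : ∀ p ∈ U, ∀ y : N, ∃ s ∉ p.asIdeal, s • y ∈ LinearMap.range f.hom) :
    Epi ((Scheme.Modules.restrictFunctor U.ι).map (tilde.map f)) := by
  refine QC70.epi_of_locally_surjective _ fun W s p hp => ?_
  obtain ⟨_, ⟨_, ⟨b, rfl⟩, rfl⟩, hpb, hbW⟩ := PrimeSpectrum.isBasis_basic_opens.exists_subset_of_mem_open
    (show U.ι p ∈ ((U.ι ''ᵁ W : (Spec R).Opens) : Set _) from ⟨p, hp, rfl⟩) (U.ι ''ᵁ W).2
  let s' : Γ(tilde N, U.ι ''ᵁ W) := ((tilde N).restrictAppIso U.ι W).hom s
  obtain ⟨y, k, hy⟩ := exists_frac N b (res (tilde N) hbW s')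
  obtain ⟨c, hc, m, hm⟩ := h (U.ι p) p.2 y
  let V₀ : (Spec R).Opens := PrimeSpectrum.basicOpen b ⊓ PrimeSpectrum.basicOpen c
  let V : U.toScheme.Opens := U.ι ⁻¹ᵁ V₀
  have hVW : V ≤ W := fun q hq => by
    obtain ⟨q', hq', e⟩ := hbW hq.1
    exact U.ι.isOpenEmbedding.injective e ▸ hq'
  have hV : U.ι ''ᵁ V ≤ V₀ := U.ι.image_preimage_le V₀
  have hu : IsUnit (algebraMap R (Module.End R Γ(tilde M, U.ι ''ᵁ V)) (b ^ k * c)) := by
    rw [map_mul, map_pow]
    exact ((Scheme.Modules.isUnit_algebraMap_end_of_le_basicOpen b (hV.trans inf_le_left)).pow k).mul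
      (Scheme.Modules.isUnit_algebraMap_end_of_le_basicOpen c (hV.trans inf_le_right))
  obtain ⟨t, ht⟩ := ((Module.End.isUnit_iff _).1 hu).2 (secL M (U.ι ''ᵁ V) m)
  refine ⟨V, hVW, ((tilde M).restrictAppIso U.ι V).inv t, ⟨hpb, hc⟩, ?_⟩
  show (tilde.map f).app (U.ι ''ᵁ V) t = res (tilde N) (U.ι.image_mono hVW) s'
  have hreg : IsSMulRegular Γ(tilde N, U.ι ''ᵁ V) (b ^ k * c) :=
    ((Scheme.Modules.isSMulRegular_of_le_basicOpen (hV.trans inf_le_left)).pow k).mul
      (Scheme.Modules.isSMulRegular_of_le_basicOpen (hV.trans inf_le_right))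
  refine hreg ?_
  show (b ^ k * c) • (tilde.map f).app (U.ι ''ᵁ V) t = (b ^ k * c) • res (tilde N) (U.ι.image_mono hVW) s'
  rw [← app_smulR]
  refine (congrArg ((tilde.map f).app (U.ι ''ᵁ V)) ht).trans ?_
  rw [map_secL, hm, LinearMap.map_smul, ← res_secL N (hV.trans inf_le_left), ← hy, res_smulR,
    QC70.res_res, mul_comm, mul_smul]

/-- Sections over an open lie in the module up to a power of the ideal of the complement. -/
theorem exists_pow_smul_mem [IsNoetherianRing R] (a : Ideal R) {U : (Spec R).Opens}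
    (hU : ∀ p, p ∈ U ↔ ¬ a ≤ p.asIdeal) (y : Γ(tilde M, U)) :
    ∃ m : ℕ, ∀ b ∈ a ^ m, b • y ∈ LinearMap.range (secL M U) := by
  have key : a ≤ (Submodule.colon (LinearMap.range (secL M U)) {y}).radical := by
    intro b hb
    have hle : PrimeSpectrum.basicOpen b ≤ U := fun p hp => (hU p).2 fun h => hp (h hb)
    obtain ⟨m, k, hm⟩ := exists_frac M b (res (tilde M) hle y)
    let f : Γ(Spec R, U) := (Spec R).presheaf.map U.leTop.op ((Scheme.ΓSpecIso R).inv b)
    have hf : (Spec R).basicOpen f ≤ PrimeSpectrum.basicOpen b := by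
      rw [Scheme.basicOpen_res, ← basicOpen_eq_of_affine]
      exact inf_le_right
    have hd : res (tilde M) ((Spec R).basicOpen_le f) (b ^ k • y - secL M U m) = 0 := by
      rw [QC70.res_sub, res_smulR, res_secL, ← QC70.res_res hle hf y, ← res_smulR, hm, res_secL, sub_self]
    obtain ⟨j, hj⟩ := QCqs72.eq_zero_of_isCompact (tilde M)
      (NoetherianSpace.isCompact (U : Set (Spec R))) f _ hd
    refine ⟨j + k, Submodule.mem_colon_singleton.2 ⟨b ^ j • m, ?_⟩⟩
    have hj' : b ^ j • (b ^ k • y - secL M U m) = 0 := by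
      rw [Scheme.Modules.smul_Spec_def, map_pow, map_pow]
      exact hj
    rw [smul_sub, sub_eq_zero, smul_smul, ← pow_add] at hj'
    rw [LinearMap.map_smul]
    exact hj'.symm
  obtain ⟨m, hm⟩ := Ideal.exists_pow_le_of_le_radical_of_fg key (IsNoetherian.noetherian _)
  exact ⟨m, fun b hb => Submodule.mem_colon_singleton.1 (hm hb)⟩

/-- Elements vanishing on an open are killed by a power of the ideal of the complement. -/
theorem exists_pow_smul_eq_zero [IsNoetherianRing R] (a : Ideal R) {U : (Spec R).Opens}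
    (hU : ∀ p, p ∈ U ↔ ¬ a ≤ p.asIdeal) {x : M} (hx : secL M U x = 0) :
    ∃ m : ℕ, ∀ b ∈ a ^ m, b • x = 0 := by
  have key : a ≤ (Submodule.colon (⊥ : Submodule R M) {x}).radical := by
    intro b hb
    have hle : PrimeSpectrum.basicOpen b ≤ U := fun p hp => (hU p).2 fun h => hp (h hb)
    obtain ⟨k, hk⟩ := exists_kill M b (x := x) (by rw [← res_secL M hle, hx, QC70.res_zero])
    exact ⟨k, Submodule.mem_colon_singleton.2 ((Submodule.mem_bot R).2 hk)⟩
  obtain ⟨m, hm⟩ := Ideal.exists_pow_le_of_le_radical_of_fg key (IsNoetherian.noetherian _)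
  exact ⟨m, fun b hb => (Submodule.mem_bot R).1 (Submodule.mem_colon_singleton.1 (hm hb))⟩

lemma restrictAppIso_smulR {F : (Spec R).Modules} (U : (Spec R).Opens) (r : R) (x : Γ(F, U.ι ''ᵁ ⊤)) :
    (F.restrictAppIso U.ι ⊤).inv (r • x) =
      (U.ι.appIso ⊤).hom ((Spec R).presheaf.map (U.ι ''ᵁ ⊤).leTop.op ((Scheme.ΓSpecIso R).inv r)) •
        (F.restrictAppIso U.ι ⊤).inv x := by
  rw [Scheme.Modules.smul_Spec_def]
  exact (QCRes72.restrictSecₛₗ U.ι F ⊤).map_smulₛₗ _ x

/-- An isomorphism over `U` comes from a map on a power of the ideal times the module. -/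
theorem exists_hom_of_iso [IsNoetherianRing R] [Module.Finite R M] (a : Ideal R) {U : (Spec R).Opens}
    (hU : ∀ p, p ∈ U ↔ ¬ a ≤ p.asIdeal)
    (Φ : (tilde M).restrict U.ι ≅ (tilde N).restrict U.ι) :
    ∃ (m : ℕ) (l : (a ^ m • ⊤ : Submodule R M) →ₗ[R] N),
      ∀ p ∈ U, ∀ y : N, ∃ s ∉ p.asIdeal, s • y ∈ LinearMap.range l := by
  let W : (Spec R).Opens := U.ι ''ᵁ ⊤
  have hW : ∀ p, p ∈ W ↔ ¬ a ≤ p.asIdeal := fun p => by rw [← hU]; simp [W]
  let θ₀ : ∀ (F G : (Spec R).Modules), (F.restrict U.ι ⟶ G.restrict U.ι) → (Γ(F, W) →ₗ[R] Γ(G, W)) :=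
    fun F G φ =>
      { toFun := fun x => (G.restrictAppIso U.ι ⊤).hom (φ.app ⊤ ((F.restrictAppIso U.ι ⊤).inv x))
        map_add' := fun x y => by rw [map_add, map_add, map_add]
        map_smul' := fun r x => by
          apply (ConcreteCategory.bijective_of_isIso (G.restrictAppIso U.ι ⊤).inv).1
          rw [restrictAppIso_smulR, Iso.hom_inv_id_apply]
          refine Eq.trans ?_ (restrictAppIso_smulR _ _ _).symm
          rw [Iso.hom_inv_id_apply, Scheme.Modules.Hom.app_smul]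
          rfl }
  have hinv : ∀ z, θ₀ _ _ Φ.hom (θ₀ _ _ Φ.inv z) = z := fun z => by
    show ((tilde N).restrictAppIso U.ι ⊤).hom (Φ.hom.app ⊤ (((tilde M).restrictAppIso U.ι ⊤).inv
      (((tilde M).restrictAppIso U.ι ⊤).hom (Φ.inv.app ⊤ (((tilde N).restrictAppIso U.ι ⊤).inv z))))) = z
    rw [Iso.hom_inv_id_apply]
    refine (congrArg ((tilde N).restrictAppIso U.ι ⊤).hom
      (congr(Scheme.Modules.Hom.app $(Φ.inv_hom_id) ⊤ (((tilde N).restrictAppIso U.ι ⊤).inv z)))).trans ?_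
    exact Iso.inv_hom_id_apply _ z
  obtain ⟨m, l, hl⟩ := QC70.exists_lift_pow a (secL N W) ((θ₀ _ _ Φ.hom).comp (secL M W))
    (exists_pow_smul_mem N a hW) fun y hy => exists_pow_smul_eq_zero N a hW hy
  refine ⟨m, l, fun p hp y => ?_⟩
  obtain ⟨b, hb, hbp⟩ := SetLike.not_le_iff_exists.1 ((hU p).1 hp)
  obtain ⟨j, hj⟩ := exists_pow_smul_mem M a hW (θ₀ _ _ Φ.inv (secL N W y))
  obtain ⟨x, hx⟩ := hj (b ^ j) (Ideal.pow_mem_pow hb j)
  let x' : (a ^ m • ⊤ : Submodule R M) :=
    ⟨b ^ m • x, Submodule.smul_mem_smul (Ideal.pow_mem_pow hb m) trivial⟩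
  have hz : secL N W (l x' - b ^ (m + j) • y) = 0 := by
    rw [map_sub, hl, LinearMap.comp_apply]
    show θ₀ _ _ Φ.hom (secL M W (b ^ m • x)) - _ = 0
    rw [LinearMap.map_smul, hx, LinearMap.map_smul, LinearMap.map_smul, hinv, LinearMap.map_smul,
      smul_smul, ← pow_add, sub_self]
  obtain ⟨k, hk⟩ := exists_pow_smul_eq_zero N a hW hz
  refine ⟨b ^ k * b ^ (m + j), fun h => (p.isPrime.mem_or_mem h).elim
    (fun h => hbp (p.isPrime.mem_of_pow_mem k h)) (fun h => hbp (p.isPrime.mem_of_pow_mem _ h)),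
    b ^ k • x', ?_⟩
  have hk' := hk (b ^ k) (Ideal.pow_mem_pow hb k)
  rw [smul_sub, sub_eq_zero, ← LinearMap.map_smul, smul_smul] at hk'
  exact hk'

end Groth.Agent.ZPair71
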